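import Groth.Agent.QGorDescLib.Invert
import Groth.Agent.FlatInjLib.FibreFree
import Groth.Agent.S9501

/-!
# Invertibility from the fibre, for a flat module
-/

set_option autoImplicit false
set_option linter.style.haveILetI false
set_option backward.isDefEq.respectTransparency false
set_option backward.isDefEq.respectTransparency.types false
set_option maxHeartbeats 1000000
set_option synthInstance.maxHeartbeats 200000

noncomputable section

universe u

open CategoryTheory CategoryTheory.Limits AlgebraicGeometry TopologicalSpace IsLocalRing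
open Groth.Agent
open scoped TensorProduct Pointwise

namespace QGorIdxLib

theorem invertibleAt_of_fibre' {X S : Scheme.{u}} [IsLocallyNoetherian X] (f : X ⟶ S) {L : X.Modules}
    (hL : Coh.IsCoh L) (s : S) (w : f.fiber s) (hflat : FlatMod.IsFlatOverAt f L (f.fiberι s w))
    (h : RelCanon.InvertibleAt ((Scheme.Modules.pullback (f.fiberι s)).obj L) w) :
    RelCanon.InvertibleAt L (f.fiberι s w) := by
  let ι := f.fiberι s
  obtain ⟨t⟩ := QGorBCLib.nonempty_stalk_equiv h
  let A := S.presheaf.stalk (f (ι w))
  let B := X.presheaf.stalk (ι w)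
  let N := L.presheaf.stalk (ι w)
  let C := (f.fiber s).presheaf.stalk w
  letI : Algebra A B := (f.stalkMap (ι w)).hom.toAlgebra
  letI := FlatMod.moduleStalkOver f L (ι w)
  haveI : IsScalarTower A B N := IsScalarTower.of_algebraMap_smul fun _ _ => rfl
  haveI : IsLocalHom (algebraMap A B) := inferInstanceAs (IsLocalHom (f.stalkMap (ι w)).hom)
  haveI : Module.Flat A N := hflat
  haveI : Module.Finite B N := ZClosLib.finite_stalk hL (ι w)
  haveI : Module.FinitePresentation B N := Module.finitePresentation_of_finite B N
  letI : Algebra B C := (ι.stalkMap w).hom.toAlgebra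
  obtain ⟨hsurj, hker⟩ := Groth.Agent.S9501.result f s w
  replace hsurj : Function.Surjective (algebraMap B C) := hsurj
  let e₀ : C ⊗[B] N ≃ₗ[C] C :=
    (((KFlatLib.stalkPullIso ι w).symm.app L).toLinearEquiv).trans t
  let I : Ideal B := (maximalIdeal A).map (algebraMap A B)
  let q : (B ⧸ I) ≃ₐ[B] C := (Ideal.quotientEquivAlgOfEq B hker.symm).trans
    (Ideal.quotientKerAlgEquivOfSurjective (f := Algebra.ofId B C) hsurj)
  let e : (N ⧸ (I • (⊤ : Submodule B N))) ≃ₗ[B] B ⧸ I :=
    (TensorProduct.quotTensorEquivQuotSMul N I).symm.trans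
      ((TensorProduct.congr q.toLinearEquiv (LinearEquiv.refl B N)).trans
        ((e₀.restrictScalars B).trans q.toLinearEquiv.symm))
  have hflat' : Module.Flat (B ⧸ I) (N ⧸ (I • (⊤ : Submodule B N))) :=
    Module.Flat.of_linearEquiv (e.extendScalarsOfSurjective Ideal.Quotient.mk_surjective)
  haveI : Module.Free B N := FlatInjLib.free_of_flat_of_flat_fibre (A := A) hflat'
  have hrank : Module.finrank B N = 1 := by
    rw [← Module.finrank_baseChange (R := C) (S := B) (M' := N), e₀.finrank_eq, Module.finrank_self]
  exact QGorDescLib.invertibleAt_of_stalk hL (LinearEquiv.ofFinrankEq _ _ (by rw [hrank, Module.finrank_self]))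

/-- A flat coherent module invertible on the fibre through a point is invertible at the point. -/
theorem invertibleAt_of_fibre {X S : Scheme.{u}} [IsLocallyNoetherian X] (f : X ⟶ S) {L : X.Modules}
    (hL : Coh.IsCoh L) (x : X) (hflat : FlatMod.IsFlatOverAt f L x)
    (h : RelCanon.InvertibleAt ((Scheme.Modules.pullback (f.fiberι (f x))).obj L) (f.asFiber x)) :
    RelCanon.InvertibleAt L x := by
  have := invertibleAt_of_fibre' f hL (f x) (f.asFiber x) (by rw [f.fiberι_asFiber]; exact hflat) h
  rwa [f.fiberι_asFiber] at this

end QGorIdxLib
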