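import Groth.Agent.QGorBCLib.Step
import Groth.Agent.QGorIdxLib.Fibre
import Groth.Agent.LocSuppLib.DepthStalk
import Groth.Agent.QGorEndLib.Scalar

/-!
# Reflexive powers of the relative canonical sheaf and of the fibres
-/

set_option autoImplicit false
set_option linter.style.haveILetI false
set_option linter.unusedSectionVars false
set_option backward.isDefEq.respectTransparency false
set_option backward.isDefEq.respectTransparency.types false
set_option maxHeartbeats 1000000
set_option synthInstance.maxHeartbeats 200000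

noncomputable section

universe u

open CategoryTheory CategoryTheory.Limits AlgebraicGeometry TopologicalSpace
open Groth.Agent

attribute [local instance] HasDerivedCategory.standard

namespace QGorIdxLib

/-- Restriction is bijective near a set where the depth along the complement of `U` is at least two. -/
theorem bijective_res_of_depth {X : Scheme.{u}} [IsLocallyNoetherian X] (U : X.Opens) {M : X.Modules} (hM : Coh.IsCoh M)
    {V : X.Opens} (hV : IsAffineOpen V)
    (h : ∀ x ∈ V, x ∉ U → (2 : ℕ∞) ≤ LocCoh.depth (X.presheaf.stalk x) (M.presheaf.stalk x)) :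
    Function.Bijective (M.presheaf.map (homOfLE (inf_le_right : U ⊓ V ≤ V)).op) := by
  have h' := (LocSuppLib.subsingleton_HZ_iff_depth U hM hV 2).2 fun x hx hxU => by exact_mod_cast h x hx hxU
  exact LocSuppLib.bijective_res_of_subsingleton (X := X.carrier) (Coh.toAb M) (inf_le_right : U ⊓ V ≤ V)
    (h' 0 (by omega)) (h' 1 (by omega))

/-- Where the depth along the complement of `U` is two a module agrees with the module extending its restriction. -/
theorem exists_hom_bijective_stalk {X : Scheme.{u}} [IsLocallyNoetherian X] (U : X.Opens) {M N : X.Modules}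
    (hM : Coh.IsCoh M) (hN : QGorSecLib.Extends U N) (e : M.restrict U.ι ≅ N.restrict U.ι) (W : X.Opens)
    (h : ∀ x ∈ W, x ∉ U → (2 : ℕ∞) ≤ LocCoh.depth (X.presheaf.stalk x) (M.presheaf.stalk x)) :
    ∃ φ : M ⟶ N, ∀ x ∈ W, Function.Bijective (RefHull.stalkMapₗ φ x) := by
  haveI := QGorSecLib.isIso_unit_of_extends U hN
  let u := (Scheme.Modules.restrictAdjunction U.ι).unit
  let c : (Scheme.Modules.pushforward U.ι).obj ((Scheme.Modules.restrictFunctor U.ι).obj M) ≅ N :=
    (Scheme.Modules.pushforward U.ι).mapIso e ≪≫ (asIso (u.app N)).symm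
  refine ⟨u.app M ≫ c.hom, fun x hx => QGorEndLib.bijective_stalk_of_affine _ W (fun V hV hVW => ?_) x hx⟩
  have hu : Function.Bijective ((u.app M).app V) := by
    have hb := bijective_res_of_depth U hM hV fun x hx' => h x (hVW hx')
    have himg : U.ι ''ᵁ U.ι ⁻¹ᵁ V = U ⊓ V := by
      rw [Scheme.Hom.image_preimage_eq_opensRange_inf, Scheme.Opens.opensRange_ι]
    haveI : IsIso (homOfLE himg.le) :=
      ⟨homOfLE himg.ge, Subsingleton.elim _ _, Subsingleton.elim _ _⟩
    rw [Scheme.Modules.restrictAdjunction_unit_app_app,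
      show (homOfLE (U.ι.image_preimage_le V)).op =
        (homOfLE (inf_le_right : U ⊓ V ≤ V)).op ≫ (homOfLE himg.le).op from Subsingleton.elim _ _,
      Functor.map_comp]
    exact (ConcreteCategory.bijective_of_isIso (M.presheaf.map (homOfLE himg.le).op)).comp hb
  exact (ConcreteCategory.bijective_of_isIso (c.hom.app V)).comp hu

variable {A : Type u} [CommRing A] [IsNoetherianRing A] {Y : Scheme.{u}} [Y.Over (Spec (CommRingCat.of A))]
  [IsProper (Y ↘ Spec (CommRingCat.of A))] [Flat (Y ↘ Spec (CommRingCat.of A))] {d : ℕ}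
  (hd : Cyc.HasRelDim (Y ↘ Spec (CommRingCat.of A)) d) {ω : Y.Modules}
  (hω : RelCanon.IsDualizingSheaf A Y d ω)
  (hS : RelCanon.IsSkMor (Y ↘ Spec (CommRingCat.of A)) 2)
  (hG : ∀ y : Y, y ∉ RelCanon.gorLocus (Y ↘ Spec (CommRingCat.of A)) → (2 : WithBot ℕ∞) ≤
    ringKrullDim (((Y ↘ Spec (CommRingCat.of A)).fiber ((Y ↘ Spec (CommRingCat.of A)) y)).presheaf.stalk
      ((Y ↘ Spec (CommRingCat.of A)).asFiber y)))
  (t : Spec (CommRingCat.of A)) {ωt : ((Y ↘ Spec (CommRingCat.of A)).fiber t).Modules}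
  (hωt : @RelCanon.IsDualizingSheaf ((Spec (CommRingCat.of A)).residueField t) _
    ((Y ↘ Spec (CommRingCat.of A)).fiber t) ⟨(Y ↘ Spec (CommRingCat.of A)).fiberToSpecResidueField t⟩ d ωt)

include hd hω hS hG hωt in
/-- An invertible reflexive power restricts to an invertible reflexive power of the fibre. -/
theorem invertibleAt_refPowZ_fibre (m : ℤ) (w : (Y ↘ Spec (CommRingCat.of A)).fiber t)
    (h : RelCanon.InvertibleAt (RelCanon.refPowZ ω m) ((Y ↘ Spec (CommRingCat.of A)).fiberι t w)) :
    RelCanon.InvertibleAt (RelCanon.refPowZ ωt m) w := by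
  let f := Y ↘ Spec (CommRingCat.of A)
  letI : (f.fiber t).Over (Spec (CommRingCat.of ((Spec (CommRingCat.of A)).residueField t))) :=
    ⟨f.fiberToSpecResidueField t⟩
  haveI : IsNoetherianRing (CommRingCat.of A) := ‹IsNoetherianRing A›
  haveI : IsLocallyNoetherian Y := LocallyOfFiniteType.isLocallyNoetherian f
  haveI : IsLocallyNoetherian (f.fiber t) :=
    haveI := UOpenLib.lft_fiberToSpec f t
    LocallyOfFiniteType.isLocallyNoetherian (f.fiberToSpecResidueField t)
  obtain ⟨φ, hφ⟩ := Spec.map_surjective ((Spec (CommRingCat.of A)).fromSpecResidueField t)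
  obtain ⟨e⟩ := QGorBCLib.nonempty_ddual_pullback_iso (B := ((Spec (CommRingCat.of A)).residueField t))
    (g := Spec.map φ) (p := f.fiberι t) hd hω hS hG
    (hφ.symm ▸ IsPullback.of_hasPullback f ((Spec (CommRingCat.of A)).fromSpecResidueField t)) hωt m
  exact QGorBCLib.invertibleAt_of_iso e (QGorBCLib.invertibleAt_ddual
    (ConsLib.isCoh_pullback _ (QGorBCLib.isCoh_refPowZ (QGorSecLib.isCoh_dualizing hd hω) m))
    (QGorBCLib.invertibleAt_pullback (f.fiberι t) h))

include hd hω hS hG hωt in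
/-- Where the reflexive power has relative `S₂`, its invertibility is seen on the fibre. -/
theorem invertibleAt_of_refPowZ_fibre (m : ℤ) (w : (Y ↘ Spec (CommRingCat.of A)).fiber t) (U : Y.Opens)
    (hwU : (Y ↘ Spec (CommRingCat.of A)).fiberι t w ∈ U)
    (h2 : ∀ z ∈ U, RelCanon.RelSkAt (Y ↘ Spec (CommRingCat.of A)) 2 (RelCanon.refPowZ ω m) z)
    (h : RelCanon.InvertibleAt (RelCanon.refPowZ ωt m) w) :
    RelCanon.InvertibleAt (RelCanon.refPowZ ω m) ((Y ↘ Spec (CommRingCat.of A)).fiberι t w) := by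
  let f := Y ↘ Spec (CommRingCat.of A)
  letI : (f.fiber t).Over (Spec (CommRingCat.of ((Spec (CommRingCat.of A)).residueField t))) :=
    ⟨f.fiberToSpecResidueField t⟩
  haveI : IsNoetherianRing (CommRingCat.of A) := ‹IsNoetherianRing A›
  haveI : IsLocallyNoetherian Y := LocallyOfFiniteType.isLocallyNoetherian f
  haveI : IsLocallyNoetherian (f.fiber t) :=
    haveI := UOpenLib.lft_fiberToSpec f t
    LocallyOfFiniteType.isLocallyNoetherian (f.fiberToSpecResidueField t)
  obtain ⟨φ, hφ⟩ := Spec.map_surjective ((Spec (CommRingCat.of A)).fromSpecResidueField t)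
  have sq : IsPullback (f.fiberι t) (f.fiber t ↘ Spec (CommRingCat.of ((Spec (CommRingCat.of A)).residueField t))) f
      (Spec.map φ) := hφ.symm ▸ IsPullback.of_hasPullback f ((Spec (CommRingCat.of A)).fromSpecResidueField t)
  let L := RelCanon.refPowZ ω m
  let G := QGorBCLib.gorOpen A Y
  have hc := QGorBCLib.isCoh_refPowZ (QGorSecLib.isCoh_dualizing hd hω) m
  haveI := hc.1
  have hM := ConsLib.isCoh_pullback (f.fiberι t) hc
  obtain ⟨e⟩ := QGorBCLib.nonempty_refPowZ_restrict_iso hd hω hS hG sq hωt m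
  have key : ∀ (s : Spec (CommRingCat.of A)) (v : f.fiber s) (z : Y), f.fiberι s v = z →
      LocCoh.depth ((f.fiber s).presheaf.stalk v)
        (((Scheme.Modules.pullback (f.fiberι s)).obj L).presheaf.stalk v) = CInt.fiberDepth f L z := by
    rintro s v z rfl
    have hs : f (f.fiberι s v) = s := (f.range_fiberι s).le ⟨v, rfl⟩
    generalize hz : f.fiberι s v = z at hs ⊢
    subst hs
    obtain rfl : f.asFiber z = v :=
      (f.fiberι _).isEmbedding.injective ((f.fiberι_asFiber z).trans hz.symm)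
    rfl
  obtain ⟨ψ, hψ⟩ := exists_hom_bijective_stalk (f.fiberι t ⁻¹ᵁ G) hM
    (QGorBCLib.extends_refPowZ_baseChange hS hG sq ωt m) e (f.fiberι t ⁻¹ᵁ U) fun v hv hvG => by
      rw [key t v _ rfl]
      exact QGorBCLib.two_le_fiberDepth f hc (QGorBCLib.support_refPowZ hd hω hG m) _ (h2 _ hv).2 (hG _ hvG)
  obtain ⟨a⟩ := QGorBCLib.nonempty_stalk_equiv h
  have hinv : RelCanon.InvertibleAt ((Scheme.Modules.pullback (f.fiberι t)).obj L) w :=
    QGorDescLib.invertibleAt_of_stalk hM ((LinearEquiv.ofBijective (RefHull.stalkMapₗ ψ w) (hψ w hwU)).trans a)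
  exact invertibleAt_of_fibre' f hc t w (h2 _ hwU).1 hinv

include hd hω hS hG in
/-- Where the morphism is `ℚ`-Gorenstein the relative index is the index of the fibre. -/
theorem gorIndex_eq_of_isQGorMorWithAt (hN : RelCanon.IsQGorWith ω) (y : Y)
    {ωy : ((Y ↘ Spec (CommRingCat.of A)).fiber ((Y ↘ Spec (CommRingCat.of A)) y)).Modules}
    (hωy : @RelCanon.IsDualizingSheaf ((Spec (CommRingCat.of A)).residueField ((Y ↘ Spec (CommRingCat.of A)) y)) _
      ((Y ↘ Spec (CommRingCat.of A)).fiber ((Y ↘ Spec (CommRingCat.of A)) y))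
      ⟨(Y ↘ Spec (CommRingCat.of A)).fiberToSpecResidueField ((Y ↘ Spec (CommRingCat.of A)) y)⟩ d ωy)
    (hQ : RelCanon.IsQGorMorWithAt (Y ↘ Spec (CommRingCat.of A)) ω y) :
    RelCanon.gorIndexWithAt ω y =
      RelCanon.gorIndexWithAt ωy ((Y ↘ Spec (CommRingCat.of A)).asFiber y) := by
  let f := Y ↘ Spec (CommRingCat.of A)
  obtain ⟨U, hyU, hU⟩ := hQ
  refine congrArg sInf (Set.ext fun r => and_congr_right fun _ => ?_)
  constructor
  · intro h
    exact invertibleAt_refPowZ_fibre hd hω hS hG (f y) hωy r (f.asFiber y) (by rw [f.fiberι_asFiber]; exact h)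
  · intro h
    have := invertibleAt_of_refPowZ_fibre hd hω hS hG (f y) hωy r (f.asFiber y) U
      (by rw [f.fiberι_asFiber]; exact hyU) (hU r) h
    rwa [f.fiberι_asFiber] at this

end QGorIdxLib
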